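import Groth.Agent.S16397
import Mathlib.Data.Finsupp.Weight
import Mathlib.Tactic

/-!
The formal relation ring: second degree, the `sl₂` formula and vanishing in low degree.
-/

set_option autoImplicit false

open MvPolynomial W4c3tautjacobian

namespace Groth.Agent.H02CA.TautRel

open Groth.Agent.S16397 (w1 F_add F_smul F_lower F_mul_x xv_valid xv_neg xv_hom)

variable {g : ℕ}

/-- Second degree of the variables. -/
def w2 (g : ℕ) (v : Var g) : ℕ := (wt g v).2

theorem weight_wt (d : Var g →₀ ℕ) :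
    Finsupp.weight (wt g) d = (Finsupp.weight (w1 g) d, Finsupp.weight (w2 g) d) := by
  simp only [Finsupp.weight_apply, Finsupp.sum, w1, w2]
  exact Prod.ext Prod.fst_sum Prod.snd_sum

theorem F_zero (g : ℕ) : F g (0 : RelRing g) = 0 := by
  have h := F_smul g 0 0
  simpa using h

theorem iterate_add (m : ℕ) (P Q : RelRing g) : (F g)^[m] (P + Q) = (F g)^[m] P + (F g)^[m] Q := by
  induction m generalizing P Q with
  | zero => rfl
  | succ m ih => simp only [Function.iterate_succ_apply, F_add, ih]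

theorem iterate_smul (m : ℕ) (c : ℚ) (P : RelRing g) : (F g)^[m] (c • P) = c • (F g)^[m] P := by
  induction m generalizing P with
  | zero => rfl
  | succ m ih => simp only [Function.iterate_succ_apply, F_smul, ih]

theorem iterate_zero' (m : ℕ) : (F g)^[m] (0 : RelRing g) = 0 := Function.iterate_fixed (F_zero g) m

/-- The scalar by which `F^(a+s)` acts after `E^a` on first degree `2s`. -/
def cst (g : ℚ) (a s : ℕ) : ℚ :=
  ((a + s).factorial : ℚ) / s.factorial * ∏ b ∈ Finset.range a, (g - s - b)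

theorem cst_zero (g : ℚ) (s : ℕ) : cst g 0 s = 1 := by
  have : (s.factorial : ℚ) ≠ 0 := Nat.cast_ne_zero.2 s.factorial_ne_zero
  simp [cst, this]

theorem cst_rec0 (g : ℚ) (a : ℕ) : cst g (a + 1) 0 = ((a : ℚ) + 1) * (g - a) * cst g a 0 := by
  simp only [cst, add_zero, Nat.factorial_zero, Nat.cast_one, div_one, Nat.factorial_succ,
    Finset.prod_range_succ, Nat.cast_zero, sub_zero]
  push_cast
  ring

theorem cst_rec (g : ℚ) (a s : ℕ) :
    cst g (a + 1) (s + 1) = cst g (a + 1) s + ((a : ℚ) + 1) * (g - 2 * (s + 1) - a) * cst g a (s + 1) := by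
  have hs : (s.factorial : ℚ) ≠ 0 := Nat.cast_ne_zero.2 s.factorial_ne_zero
  have hs1 : ((s : ℚ) + 1) ≠ 0 := Nat.cast_add_one_ne_zero s
  simp only [cst, show a + 1 + (s + 1) = (a + s + 1) + 1 by omega, show a + 1 + s = a + s + 1 by omega,
    show a + (s + 1) = a + s + 1 by omega, Nat.factorial_succ]
  rw [Finset.prod_range_succ (fun b : ℕ => g - ((s + 1 : ℕ) : ℚ) - b), Finset.prod_range_succ']
  have hp : ∏ k ∈ Finset.range a, (g - (s : ℚ) - ((k + 1 : ℕ) : ℚ)) =
      ∏ b ∈ Finset.range a, (g - ((s + 1 : ℕ) : ℚ) - b) :=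
    Finset.prod_congr rfl fun k _ => by push_cast; ring
  rw [hp]
  push_cast
  field_simp
  ring

theorem xv_two_hom (hg : 1 ≤ g) {P : RelRing g} {i : ℕ} (hP : IsWeightedHomogeneous (w1 g) P i) (a : ℕ) :
    IsWeightedHomogeneous (w1 g) (xv g 2 0 ^ a * P) (2 * a + i) := by
  have h := ((xv_hom g 2 0).pow a).mul hP
  simpa [mul_comm] using h

theorem F_pow_mul (hg : 1 ≤ g) {P : RelRing g} {i : ℕ} (hP : IsWeightedHomogeneous (w1 g) P i) :
    ∀ a : ℕ, F g (xv g 2 0 ^ (a + 1) * P) =
      xv g 2 0 ^ (a + 1) * F g P + (((a : ℚ) + 1) * ((g : ℚ) - i - a)) • (xv g 2 0 ^ a * P) := by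
  intro a
  induction a with
  | zero => simpa using F_mul_x hg hP
  | succ a ih =>
    rw [pow_succ' _ (a + 1), mul_assoc, F_mul_x hg (xv_two_hom hg hP (a + 1)), ih, mul_add, mul_smul_comm,
      ← mul_assoc, ← mul_assoc, ← pow_succ' _ a, add_assoc, ← add_smul]
    congr 2
    push_cast
    ring

theorem iterate_E_pow (hg : 1 ≤ g) : ∀ (t a s : ℕ) (P : RelRing g), a + s = t →
    IsWeightedHomogeneous (w1 g) P (2 * s) →
      (F g)^[t] (xv g 2 0 ^ a * P) = cst g a s • (F g)^[s] P := by
  intro t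
  induction t with
  | zero =>
    intro a s P h _
    obtain ⟨rfl, rfl⟩ : a = 0 ∧ s = 0 := by omega
    simp [cst_zero]
  | succ t ih =>
    intro a s P h hP
    rcases a with _ | a
    · obtain rfl : s = t + 1 := by omega
      simp [cst_zero]
    rw [Function.iterate_succ_apply, F_pow_mul hg hP, iterate_add, iterate_smul, ih a s P (by omega) hP]
    rcases s with _ | s
    · rw [(F_lower hP).2 (by omega), mul_zero, iterate_zero', zero_add, smul_smul, cst_rec0]
      push_cast
      ring_nf
    · rw [ih (a + 1) s (F g P) (by omega) (by simpa [mul_add] using (F_lower hP).1),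
        ← Function.iterate_succ_apply, smul_smul, ← add_smul, cst_rec]
      push_cast
      rfl

theorem cst_eq_zero {a s : ℕ} (hs : s ≤ g) (h : g < a + s) : cst g a s = 0 := by
  unfold cst
  rw [Finset.prod_eq_zero (i := g - s) (Finset.mem_range.2 (by omega)), mul_zero]
  rw [Nat.cast_sub hs]
  ring

theorem dv_hom2 {P : RelRing g} {j : ℕ} (hP : IsWeightedHomogeneous (w2 g) P j) (p : ℕ × ℕ) :
    IsWeightedHomogeneous (w2 g) (dv g p P) (j - p.2) ∧ (j < p.2 → dv g p P = 0) := by
  unfold dv
  split_ifs with h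
  · by_cases hle : p.2 ≤ j
    · exact ⟨hP.pderiv (show j - p.2 + p.2 = j by omega), fun hc => absurd hc (by omega)⟩
    · have h0 : pderiv (some ⟨p, h⟩) P = 0 := by
        apply pderiv_eq_zero_of_notMem_vars
        intro hv
        obtain ⟨d, hd, hdv⟩ := (mem_vars (p := P) (some ⟨p, h⟩)).1 hv
        have h1 := Finsupp.le_weight_of_ne_zero' (w2 g) (Finsupp.mem_support_iff.1 hdv)
        rw [hP (mem_support_iff.1 hd)] at h1
        exact hle h1
      rw [h0]
      exact ⟨isWeightedHomogeneous_zero _ _ _, fun _ => rfl⟩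
  · exact ⟨isWeightedHomogeneous_zero _ _ _, fun _ => rfl⟩

theorem xv_hom2 (i j : ℤ) : IsWeightedHomogeneous (w2 g) (xv g i j) j.toNat := by
  unfold xv
  split_ifs with h0 h
  · obtain ⟨rfl, rfl⟩ := h0
    rw [← map_natCast (C : ℚ →+* RelRing g)]
    exact isWeightedHomogeneous_C _ _
  · exact isWeightedHomogeneous_X ℚ (w2 g) _
  · exact isWeightedHomogeneous_zero _ _ _

theorem F_second {P : RelRing g} {j : ℕ} (hP : IsWeightedHomogeneous (w2 g) P j) :
    IsWeightedHomogeneous (w2 g) (F g P) j := by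
  refine IsWeightedHomogeneous.add
    (Submodule.smul_mem (weightedHomogeneousSubmodule ℚ (w2 g) j) _
      (Submodule.sum_mem _ fun p _ => Submodule.sum_mem _ fun q _ => ?_))
    (Submodule.sum_mem (weightedHomogeneousSubmodule ℚ (w2 g) j) fun p _ => ?_)
  · show IsWeightedHomogeneous (w2 g) _ j
    by_cases hj : p.2 + q.2 ≤ j
    · have hc : IsWeightedHomogeneous (w2 g) (X none * xv g ((p.1 : ℤ) - 1) ((p.2 : ℤ) - 1)
          * xv g ((q.1 : ℤ) - 1) ((q.2 : ℤ) - 1)
        - (mergeCoeff p.1 q.1 : RelRing g) * xv g ((p.1 : ℤ) + q.1 - 2) ((p.2 : ℤ) + q.2)) (p.2 + q.2) := by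
        refine IsWeightedHomogeneous.sub ?_ ?_
        · by_cases hz : p.2 = 0 ∨ q.2 = 0
          · rcases hz with hz | hz <;>
              simp [hz, xv_neg, isWeightedHomogeneous_zero]
          · have := ((isWeightedHomogeneous_X ℚ (w2 g) none).mul (xv_hom2 ((p.1 : ℤ) - 1) ((p.2 : ℤ) - 1))).mul
              (xv_hom2 (g := g) ((q.1 : ℤ) - 1) ((q.2 : ℤ) - 1))
            rwa [show w2 g none + ((p.2 : ℤ) - 1).toNat + ((q.2 : ℤ) - 1).toNat = p.2 + q.2 by
              simp only [w2, wt]; omega] at this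
        · rw [← map_natCast (C : ℚ →+* RelRing g)]
          have := (isWeightedHomogeneous_C (w2 g) (mergeCoeff p.1 q.1 : ℚ)).mul
            (xv_hom2 ((p.1 : ℤ) + q.1 - 2) ((p.2 : ℤ) + q.2))
          rwa [show 0 + ((p.2 : ℤ) + q.2).toNat = p.2 + q.2 by omega] at this
      have := hc.mul (dv_hom2 (dv_hom2 hP q).1 p).1
      rwa [show p.2 + q.2 + (j - q.2 - p.2) = j by omega] at this
    · have h0 : dv g p (dv g q P) = 0 := by
        by_cases hq : q.2 ≤ j
        · exact (dv_hom2 (dv_hom2 hP q).1 p).2 (by omega)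
        · rw [(dv_hom2 hP q).2 (by omega)]; unfold dv; split_ifs <;> simp
      rw [h0, mul_zero]
      exact isWeightedHomogeneous_zero _ _ _
  · show IsWeightedHomogeneous (w2 g) _ j
    by_cases hj : p.2 ≤ j
    · have := (xv_hom2 ((p.1 : ℤ) - 2) (p.2 : ℤ)).mul (dv_hom2 hP p).1
      rwa [show (p.2 : ℤ).toNat + (j - p.2) = j by omega] at this
    · rw [(dv_hom2 hP p).2 (by omega), mul_zero]
      exact isWeightedHomogeneous_zero _ _ _

theorem iterate_second {P : RelRing g} {j : ℕ} (hP : IsWeightedHomogeneous (w2 g) P j) (m : ℕ) :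
    IsWeightedHomogeneous (w2 g) ((F g)^[m] P) j := by
  induction m with
  | zero => exact hP
  | succ m ih => rw [Function.iterate_succ_apply']; exact F_second ih

theorem iterate_first {P : RelRing g} {i : ℕ} (hP : IsWeightedHomogeneous (w1 g) P i) (m : ℕ) :
    IsWeightedHomogeneous (w1 g) ((F g)^[m] P) (i - 2 * m) ∧ (i < 2 * m → (F g)^[m] P = 0) := by
  induction m with
  | zero => exact ⟨hP, fun h => absurd h (by omega)⟩
  | succ m ih =>
    rw [Function.iterate_succ_apply']
    refine ⟨by simpa [mul_add, Nat.sub_sub] using (F_lower ih.1).1, fun h => ?_⟩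
    by_cases h' : i < 2 * m
    · rw [ih.2 h', F_zero]
    · exact (F_lower ih.1).2 (by omega)

/-- A monomial of low second degree whose first degree exceeds `2g` has no image in first degree zero. -/
theorem iterate_monomial_eq_zero (hg : 1 ≤ g) (d : Var g →₀ ℕ) (k : ℕ)
    (hk : Finsupp.weight (w1 g) d = 2 * k) (hgk : g < k) (hn : 3 * Finsupp.weight (w2 g) d ≤ 2 * g) :
    (F g)^[k] (monomial d (1 : ℚ)) = 0 := by
  have hv : Valid g (2, 0) := ⟨by simp, by simp; omega, by decide, by simp⟩
  let v₀ : Var g := some ⟨(2, 0), hv⟩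
  let e := Finsupp.erase v₀ d
  have hd : d = Finsupp.single v₀ (d v₀) + e := (Finsupp.single_add_erase v₀ d).symm
  have hle : Finsupp.weight (w1 g) e ≤ 3 * Finsupp.weight (w2 g) e := by
    simp only [Finsupp.weight_apply, Finsupp.sum, Finset.mul_sum, smul_eq_mul]
    refine Finset.sum_le_sum fun v hv' => ?_
    rcases v with _ | ⟨⟨i, j⟩, hij⟩
    · simp [w1, w2, wt]
    · have hne : ((i, j) : ℕ × ℕ) ≠ (2, 0) := fun h => by
        rw [Finsupp.support_erase, Finset.mem_erase] at hv'
        exact hv'.1 (by simp [v₀, h])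
      obtain ⟨h1, -, h3, h4⟩ := hij
      have : i ≤ 3 * j := by
        rcases j with _ | j
        · obtain ⟨c, hc⟩ := h3
          simp only [ne_eq, Prod.mk.injEq, and_true] at hne h4
          omega
        · simp at h1 ⊢; omega
      simp only [w1, w2, wt]
      calc _ ≤ _ * (3 * j) := Nat.mul_le_mul_left _ this
        _ = 3 * (_ * j) := by ring
  have hw1 : Finsupp.weight (w1 g) d = 2 * d v₀ + Finsupp.weight (w1 g) e := by
    conv_lhs => rw [hd]
    rw [map_add, Finsupp.weight_single]
    simp [w1, wt, v₀, mul_comm]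
  have hw2 : Finsupp.weight (w2 g) d = Finsupp.weight (w2 g) e := by
    conv_lhs => rw [hd]
    rw [map_add, Finsupp.weight_single]
    simp [w2, wt, v₀]
  have hmon : monomial d (1 : ℚ) = xv g 2 0 ^ d v₀ * monomial e 1 := by
    rw [show xv g 2 0 = X v₀ by simpa using xv_valid hv, X_pow_eq_monomial, monomial_mul, mul_one, ← hd]
  rw [hmon, iterate_E_pow hg k (d v₀) (k - d v₀) _ (by omega)
    (isWeightedHomogeneous_monomial _ _ _ (by omega)), cst_eq_zero (by omega) (by omega), zero_smul]

/-- Coefficients of the relation ideal in first degree zero and low second degree vanish. -/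
theorem coeff_eq_zero (hg : 1 ≤ g) {n : ℕ} (hn : 3 * n ≤ 2 * g) {P : RelRing g} (hP : P ∈ relIdeal g) :
    ∀ d : Var g →₀ ℕ, Finsupp.weight (w1 g) d = 0 → Finsupp.weight (w2 g) d ≤ n → coeff d P = 0 := by
  classical
  induction hP using Submodule.span_induction with
  | mem P hP =>
    obtain ⟨e, m, he, rfl⟩ := hP
    intro d hd1 hd2
    by_contra hne
    rw [weight_wt] at he
    have h1 : IsWeightedHomogeneous (w1 g) (monomial e (1 : ℚ)) (Finsupp.weight (w1 g) e) :=
      isWeightedHomogeneous_monomial _ _ _ rfl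
    have h2 : IsWeightedHomogeneous (w2 g) (monomial e (1 : ℚ)) (Finsupp.weight (w2 g) e) :=
      isWeightedHomogeneous_monomial _ _ _ rfl
    have a1 := (iterate_first h1 m).1 hne
    have a2 := iterate_second h2 m hne
    have hle : 2 * m ≤ Finsupp.weight (w1 g) e := by
      by_contra h
      exact hne (by rw [(iterate_first h1 m).2 (by omega), coeff_zero])
    refine hne ?_
    rw [iterate_monomial_eq_zero hg e m (by omega) (by omega) (by omega), coeff_zero]
  | zero => simp
  | add P Q _ _ hP hQ => intro d h1 h2; rw [coeff_add, hP d h1 h2, hQ d h1 h2, add_zero]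
  | smul a P _ hP =>
    intro d h1 h2
    rw [smul_eq_mul, coeff_mul]
    refine Finset.sum_eq_zero fun x hx => ?_
    obtain ⟨rfl⟩ : x.1 + x.2 = d := Finset.mem_antidiagonal.1 hx
    rw [map_add] at h1 h2
    rw [hP x.2 (by omega) (by omega), mul_zero]

end Groth.Agent.H02CA.TautRel
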