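import Groth.Agent.H02CA.TautRel.Basic
import Mathlib.RingTheory.Ideal.Quotient.Operations

/-!
The formal relation ring: non-vanishing of a linear coefficient and generation by the low symbols.
-/

set_option autoImplicit false

open MvPolynomial W4c3tautjacobian

namespace Groth.Agent.H02CA.TautRel

open Groth.Agent.S16397 (w1 F_add F_smul F_lower F_mul_x xv_valid xv_neg xv_hom mem_idx)

variable {g : ℕ}

theorem dv_ymul (p : ℕ × ℕ) (P : RelRing g) : dv g p (X none * P) = X none * dv g p P := by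
  unfold dv
  split_ifs with h
  · rw [pderiv_mul, pderiv_X_of_ne (by simp), zero_mul, zero_add]
  · rw [mul_zero]

theorem F_ymul (P : RelRing g) : F g (X none * P) = X none * F g P := by
  unfold F
  simp only [dv_ymul]
  rw [mul_add (X none : RelRing g), mul_smul_comm]
  congr 1
  · congr 1
    rw [Finset.mul_sum]
    refine Finset.sum_congr rfl fun p _ => ?_
    rw [Finset.mul_sum]
    exact Finset.sum_congr rfl fun q _ => mul_left_comm _ _ _
  · rw [Finset.mul_sum]
    exact Finset.sum_congr rfl fun p _ => mul_left_comm _ _ _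

theorem iterate_ymul (m : ℕ) (P : RelRing g) : (F g)^[m] (X none * P) = X none * (F g)^[m] P := by
  induction m generalizing P with
  | zero => rfl
  | succ m ih => rw [Function.iterate_succ_apply, F_ymul, ih, ← Function.iterate_succ_apply]

/-- The coefficient of a symbol in an iterate. -/
noncomputable def coef (g : ℕ) (L : {p : ℕ × ℕ // Valid g p}) (m : ℕ) : RelRing g →ₗ[ℚ] ℚ where
  toFun P := coeff (Finsupp.single (some L) 1) ((F g)^[m] P)
  map_add' P Q := by rw [iterate_add, coeff_add]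
  map_smul' c P := by rw [iterate_smul, coeff_smul]; rfl

theorem coef_zero (L : {p : ℕ × ℕ // Valid g p}) (P : RelRing g) :
    coef g L 0 P = coeff (Finsupp.single (some L) 1) P := rfl

theorem coef_succ (L : {p : ℕ × ℕ // Valid g p}) (m : ℕ) (P : RelRing g) :
    coef g L (m + 1) P = coef g L m (F g P) := by
  show coeff _ _ = coeff _ _
  rw [Function.iterate_succ_apply]

theorem coef_ymul (L : {p : ℕ × ℕ // Valid g p}) (m : ℕ) (P : RelRing g) :
    coef g L m (X none * P) = 0 := by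
  classical
  show coeff _ _ = 0
  rw [iterate_ymul, coeff_X_mul', if_neg (by simp)]

/-- The signed coefficient on a monomial. -/
noncomputable def sgn (g : ℕ) (L : {p : ℕ × ℕ // Valid g p}) (m : ℕ) (d : Var g →₀ ℕ) : ℚ :=
  (-1) ^ (d.degree + 1) * coef g L m (monomial d 1)

/-- The monomials we follow. -/
def Good (d : Var g →₀ ℕ) : Prop :=
  d none = 0 ∧ ∀ v : {p : ℕ × ℕ // Valid g p}, v.1 = (2, 0) → d (some v) = 0

theorem Good.ne {d : Var g →₀ ℕ} (hd : Good d) {v : {p : ℕ × ℕ // Valid g p}} (h : d (some v) ≠ 0) :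
    1 ≤ v.1.2 := by
  rcases v with ⟨⟨i, j⟩, hv⟩
  by_contra hc
  obtain rfl : j = 0 := by simp at hc; omega
  have h1 : i ≤ 0 + 2 := hv.1
  obtain ⟨c, hc⟩ := hv.2.2.1
  have h4 : i ≠ 0 := fun h => hv.2.2.2 (by simp [h])
  obtain rfl : i = 2 := by simp at hc; omega
  exact h (hd.2 _ rfl)

theorem Good.add_single {e : Var g →₀ ℕ} (he : Good e) {r : {p : ℕ × ℕ // Valid g p}} (hr : 1 ≤ r.1.2) :
    Good (e + Finsupp.single (some r) 1) := by
  refine ⟨by simp [he.1], fun v hv => ?_⟩
  have : v ≠ r := fun h => by rw [h] at hv; rw [hv] at hr; exact absurd hr (by decide)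
  simp [he.2 v hv, Finsupp.single_apply, Ne.symm this]

/-- A merging term. -/
noncomputable def merge (g : ℕ) (p q : ℕ × ℕ) (P : RelRing g) : RelRing g :=
  (X none * xv g ((p.1 : ℤ) - 1) ((p.2 : ℤ) - 1) * xv g ((q.1 : ℤ) - 1) ((q.2 : ℤ) - 1)
    - (mergeCoeff p.1 q.1 : RelRing g) * xv g ((p.1 : ℤ) + q.1 - 2) ((p.2 : ℤ) + q.2))
    * dv g p (dv g q P)

/-- A lowering term. -/
noncomputable def lower (g : ℕ) (p : ℕ × ℕ) (P : RelRing g) : RelRing g :=
  xv g ((p.1 : ℤ) - 2) (p.2 : ℤ) * dv g p P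

theorem sgn_succ (L : {p : ℕ × ℕ // Valid g p}) (m : ℕ) (d : Var g →₀ ℕ) :
    sgn g L (m + 1) d =
      (1 / 2 : ℚ) * ∑ p ∈ idx g, ∑ q ∈ idx g,
          (-1) ^ (d.degree + 1) * coef g L m (merge g p q (monomial d 1))
        + ∑ p ∈ idx g, (-1) ^ (d.degree + 1) * coef g L m (lower g p (monomial d 1)) := by
  show (-1) ^ (d.degree + 1) * coef g L (m + 1) (monomial d 1) = _
  rw [coef_succ, show F g (monomial d 1) = (1 / 2 : ℚ) • (∑ p ∈ idx g, ∑ q ∈ idx g, merge g p q (monomial d 1))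
    + ∑ p ∈ idx g, lower g p (monomial d 1) from rfl, map_add, map_smul, map_sum, map_sum, mul_add,
    smul_eq_mul, mul_left_comm]
  congr 1
  · congr 1
    rw [Finset.mul_sum]
    exact Finset.sum_congr rfl fun p _ => by rw [map_sum, Finset.mul_sum]
  · rw [Finset.mul_sum]

theorem mul_monomial_eq (r : {p : ℕ × ℕ // Valid g p}) (e : Var g →₀ ℕ) (c : ℚ) :
    X (some r) * monomial e c = c • monomial (e + Finsupp.single (some r) 1) (1 : ℚ) := by
  rw [X, monomial_mul, one_mul, smul_monomial, smul_eq_mul, mul_one, add_comm]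

theorem lower_term (L : {p : ℕ × ℕ // Valid g p}) (m : ℕ) {d : Var g →₀ ℕ} (hd : Good d) (p : ℕ × ℕ) :
    (-1) ^ (d.degree + 1) * coef g L m (lower g p (monomial d 1)) = 0 ∨
    ∃ (hp : Valid g p) (r : {p : ℕ × ℕ // Valid g p}) (e : Var g →₀ ℕ),
      d = e + Finsupp.single (some ⟨p, hp⟩) 1 ∧ Good (e + Finsupp.single (some r) 1) ∧
      2 ≤ p.1 ∧ r.1 = (p.1 - 2, p.2) ∧
      (-1) ^ (d.degree + 1) * coef g L m (lower g p (monomial d 1)) =
        (d (some ⟨p, hp⟩) : ℚ) * sgn g L m (e + Finsupp.single (some r) 1) := by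
  classical
  by_cases hp : Valid g p
  swap
  · left; simp [lower, dv, hp]
  by_cases hdp : d (some ⟨p, hp⟩) = 0
  · left; simp [lower, dv, hp, pderiv_monomial, hdp]
  by_cases h2 : p.1 < 2
  · left; simp [lower, xv_neg g ((p.1 : ℤ) - 2) (p.2 : ℤ) (Or.inl (by omega))]
  have hj : 1 ≤ p.2 := hd.ne hdp
  have hne : (p.1 - 2, p.2) ≠ ((0, 0) : ℕ × ℕ) := fun h => by
    simp only [Prod.mk.injEq] at h; omega
  have hr : Valid g (p.1 - 2, p.2) := by
    obtain ⟨a, b, ⟨c, hc⟩, -⟩ := hp
    exact ⟨by dsimp only; omega, b, ⟨c - 1, by dsimp only; omega⟩, hne⟩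
  right
  set e := d - Finsupp.single (some ⟨p, hp⟩) 1 with he
  have hde : d = e + Finsupp.single (some ⟨p, hp⟩) 1 := by
    rw [he, tsub_add_cancel_of_le (Finsupp.single_le_iff.2 (by omega))]
  have heG : Good e := ⟨by simp [he, hd.1], fun v hv => by simp [he, hd.2 v hv]⟩
  have hxv : xv g ((p.1 : ℤ) - 2) (p.2 : ℤ) = X (some ⟨_, hr⟩) := by
    rw [← xv_valid hr]
    congr 1
    dsimp only
    omega
  refine ⟨hp, ⟨_, hr⟩, e, hde, heG.add_single hj, by omega, rfl, ?_⟩
  rw [lower, dv, dif_pos hp, pderiv_monomial, one_mul, hxv, mul_monomial_eq, map_smul, smul_eq_mul, sgn]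
  have hdeg : d.degree = e.degree + 1 := by rw [hde, map_add, Finsupp.degree_single]
  rw [map_add, Finsupp.degree_single, hdeg]
  ring

theorem merge_term (L : {p : ℕ × ℕ // Valid g p}) (m : ℕ) {d : Var g →₀ ℕ} (hd : Good d) (p q : ℕ × ℕ) :
    (-1) ^ (d.degree + 1) * coef g L m (merge g p q (monomial d 1)) = 0 ∨
    ∃ (hp : Valid g p) (hq : Valid g q) (r : {p : ℕ × ℕ // Valid g p}) (e : Var g →₀ ℕ),
      d = e + Finsupp.single (some ⟨p, hp⟩) 1 + Finsupp.single (some ⟨q, hq⟩) 1 ∧
      Good (e + Finsupp.single (some r) 1) ∧ r.1 = (p.1 + q.1 - 2, p.2 + q.2) ∧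
      (-1) ^ (d.degree + 1) * coef g L m (merge g p q (monomial d 1)) =
        (mergeCoeff p.1 q.1 : ℚ) * ((d (some ⟨q, hq⟩) : ℚ) *
          (((e + Finsupp.single (some ⟨p, hp⟩) 1 : Var g →₀ ℕ) (some ⟨p, hp⟩) : ℕ) : ℚ)) *
          sgn g L m (e + Finsupp.single (some r) 1) := by
  classical
  by_cases hp : Valid g p
  swap
  · left; simp [merge, dv, hp]
  by_cases hq : Valid g q
  swap
  · left; simp [merge, dv, hq]
  by_cases hdq : d (some ⟨q, hq⟩) = 0
  · left; simp [merge, dv, hp, hq, pderiv_monomial, hdq]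
  set d₁ := d - Finsupp.single (some ⟨q, hq⟩) 1 with hd₁
  by_cases hdp : d₁ (some ⟨p, hp⟩) = 0
  · left; simp [merge, dv, hp, hq, pderiv_monomial, ← hd₁, hdp]
  set e := d₁ - Finsupp.single (some ⟨p, hp⟩) 1 with he
  have h1 : d₁ = e + Finsupp.single (some ⟨p, hp⟩) 1 := by
    rw [he, tsub_add_cancel_of_le (Finsupp.single_le_iff.2 (by omega))]
  have hde : d = e + Finsupp.single (some ⟨p, hp⟩) 1 + Finsupp.single (some ⟨q, hq⟩) 1 := by
    rw [← h1, hd₁, tsub_add_cancel_of_le (Finsupp.single_le_iff.2 (by omega))]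
  have hy : coef g L m (merge g p q (monomial d 1)) = -coef g L m ((mergeCoeff p.1 q.1 : RelRing g) *
      xv g ((p.1 : ℤ) + q.1 - 2) ((p.2 : ℤ) + q.2) * dv g p (dv g q (monomial d 1))) := by
    rw [merge, sub_mul, map_sub, mul_assoc (X none), mul_assoc (X none), coef_ymul, zero_sub]
  by_cases hm : mergeCoeff p.1 q.1 = 0
  · left; rw [hy, hm, Nat.cast_zero, zero_mul, zero_mul, map_zero, neg_zero, mul_zero]
  by_cases hr : Valid g (p.1 + q.1 - 2, p.2 + q.2)
  swap
  · left
    have hpj : 1 ≤ p.2 := hd.ne (v := ⟨p, hp⟩) (by rw [hde]; simp)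
    have h0 : xv g ((p.1 : ℤ) + q.1 - 2) ((p.2 : ℤ) + q.2) = 0 := by
      unfold xv
      rw [if_neg (by omega), dif_neg]
      rintro ⟨h1, h2, h3⟩
      refine hr ?_
      convert h3 using 2 <;> omega
    rw [hy, h0, mul_zero, zero_mul, map_zero, neg_zero, mul_zero]
  right
  have hpj : 1 ≤ p.2 := hd.ne (v := ⟨p, hp⟩) (by rw [hde]; simp)
  have hp1 : 1 ≤ p.1 ∧ 1 ≤ q.1 := by
    constructor <;> by_contra h <;> exact hm (by simp [mergeCoeff, show p.1 = 0 ∨ q.1 = 0 by omega])
  have heG : Good e := ⟨by simp [he, hd₁, hd.1], fun v hv => by simp [he, hd₁, hd.2 v hv]⟩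
  have hxv : xv g ((p.1 : ℤ) + q.1 - 2) ((p.2 : ℤ) + q.2) = X (some ⟨_, hr⟩) := by
    rw [← xv_valid hr]
    congr 1 <;> dsimp only <;> omega
  refine ⟨hp, hq, ⟨_, hr⟩, e, hde, heG.add_single (by dsimp only; omega), rfl, ?_⟩
  rw [hy, hxv, dv, dif_pos hp, dv, dif_pos hq, pderiv_monomial, one_mul, pderiv_monomial, ← hd₁, ← he,
    mul_assoc, mul_monomial_eq, ← h1, ← nsmul_eq_mul, map_nsmul, map_smul, nsmul_eq_mul, smul_eq_mul, sgn]
  have hdeg : d.degree = e.degree + 2 := by
    rw [hde, map_add, map_add, Finsupp.degree_single, Finsupp.degree_single]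
  rw [map_add, Finsupp.degree_single, hdeg]
  ring

theorem sgn_nonneg (L : {p : ℕ × ℕ // Valid g p}) : ∀ (m : ℕ) (d : Var g →₀ ℕ), Good d → 0 ≤ sgn g L m d := by
  classical
  intro m
  induction m with
  | zero =>
    intro d _
    rw [sgn, coef_zero, coeff_monomial]
    split_ifs with h
    · rw [h, Finsupp.degree_single]; norm_num
    · simp
  | succ m ih =>
    intro d hd
    rw [sgn_succ]
    refine add_nonneg (mul_nonneg (by norm_num) (Finset.sum_nonneg fun p _ => Finset.sum_nonneg fun q _ => ?_))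
      (Finset.sum_nonneg fun p _ => ?_)
    · rcases merge_term L m hd p q with h | ⟨hp, hq, r, e, -, he, -, h⟩
      · rw [h]
      · rw [h]; exact mul_nonneg (by positivity) (ih _ he)
    · rcases lower_term L m hd p with h | ⟨hp, r, e, -, he, -, -, h⟩
      · rw [h]
      · rw [h]; exact mul_nonneg (by positivity) (ih _ he)

theorem pos_of_merge (L : {p : ℕ × ℕ // Valid g p}) (m : ℕ) (p q r : {p : ℕ × ℕ // Valid g p}) (e : Var g →₀ ℕ)
    (hd : Good (e + Finsupp.single (some p) 1 + Finsupp.single (some q) 1))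
    (hr : r.1 = (p.1.1 + q.1.1 - 2, p.1.2 + q.1.2)) (hc : mergeCoeff p.1.1 q.1.1 ≠ 0)
    (h : 0 < sgn g L m (e + Finsupp.single (some r) 1)) :
    0 < sgn g L (m + 1) (e + Finsupp.single (some p) 1 + Finsupp.single (some q) 1) := by
  classical
  set d := e + Finsupp.single (some p) 1 + Finsupp.single (some q) 1 with hdd
  have hpj := hd.ne (v := p) (by rw [hdd]; simp)
  have hterm : 0 < (-1) ^ (d.degree + 1) * coef g L m (merge g p.1 q.1 (monomial d 1)) := by
    have hp1 : 1 ≤ p.1.1 ∧ 1 ≤ q.1.1 := by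
      constructor <;> by_contra h <;> exact hc (by simp [mergeCoeff, show p.1.1 = 0 ∨ q.1.1 = 0 by omega])
    have hxv : xv g ((p.1.1 : ℤ) + q.1.1 - 2) ((p.1.2 : ℤ) + q.1.2) = X (some r) := by
      rw [← xv_valid r.2, hr]
      congr 1 <;> dsimp only <;> omega
    have hy : coef g L m (merge g p.1 q.1 (monomial d 1)) = -coef g L m ((mergeCoeff p.1.1 q.1.1 : RelRing g) *
        xv g ((p.1.1 : ℤ) + q.1.1 - 2) ((p.1.2 : ℤ) + q.1.2) * dv g p.1 (dv g q.1 (monomial d 1))) := by
      rw [merge, sub_mul, map_sub, mul_assoc (X none), mul_assoc (X none), coef_ymul, zero_sub]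
    have e1 : d - Finsupp.single (some q) 1 = e + Finsupp.single (some p) 1 := add_tsub_cancel_right _ _
    have e2 : e + Finsupp.single (some p) 1 - Finsupp.single (some p) 1 = e := add_tsub_cancel_right _ _
    rw [hy, hxv, dv, dif_pos p.2, dv, dif_pos q.2, Subtype.coe_eta, Subtype.coe_eta, pderiv_monomial, one_mul,
      pderiv_monomial, e1, e2, mul_assoc, mul_monomial_eq, ← nsmul_eq_mul, map_nsmul, map_smul, nsmul_eq_mul,
      smul_eq_mul]
    have hdeg : d.degree = e.degree + 2 := by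
      rw [hdd, map_add, map_add, Finsupp.degree_single, Finsupp.degree_single]
    rw [sgn, map_add, Finsupp.degree_single] at h
    rw [hdeg]
    have h1 : (0 : ℚ) < mergeCoeff p.1.1 q.1.1 := by exact_mod_cast Nat.pos_of_ne_zero hc
    have h2 : (0 : ℚ) < (d (some q) : ℚ) := by rw [hdd]; simp; positivity
    have h3 : (0 : ℚ) < (((e + Finsupp.single (some p) 1 : Var g →₀ ℕ) (some p) : ℕ) : ℚ) := by simp; positivity
    calc (0 : ℚ) < (mergeCoeff p.1.1 q.1.1 : ℚ) * ((d (some q) : ℚ) * (((e + Finsupp.single (some p) 1 : Var g →₀ ℕ) (some p) : ℕ) : ℚ))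
          * ((-1) ^ (e.degree + 1 + 1) * coef g L m (monomial (e + Finsupp.single (some r) 1) 1)) :=
            mul_pos (mul_pos h1 (mul_pos h2 h3)) h
      _ = _ := by ring
  rw [sgn_succ]
  refine add_pos_of_pos_of_nonneg (mul_pos (by norm_num) ?_) (Finset.sum_nonneg fun p' _ => ?_)
  · refine Finset.sum_pos' (fun p' _ => Finset.sum_nonneg fun q' _ => ?_) ⟨p.1, mem_idx p.2,
      Finset.sum_pos' (fun q' _ => ?_) ⟨q.1, mem_idx q.2, hterm⟩⟩
    all_goals
      rcases merge_term L m hd _ _ with h' | ⟨_, _, _, _, -, he, -, h'⟩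
      · exact h'.symm.le
      · rw [h']; exact mul_nonneg (by positivity) (sgn_nonneg L m _ he)
  · rcases lower_term L m hd p' with h' | ⟨_, _, _, -, he, -, -, h'⟩
    · exact h'.symm.le
    · rw [h']; exact mul_nonneg (by positivity) (sgn_nonneg L m _ he)

theorem pos_of_lower (L : {p : ℕ × ℕ // Valid g p}) (m : ℕ) (p r : {p : ℕ × ℕ // Valid g p}) (e : Var g →₀ ℕ)
    (hd : Good (e + Finsupp.single (some p) 1)) (h2 : 2 ≤ p.1.1)
    (hr : r.1 = (p.1.1 - 2, p.1.2)) (h : 0 < sgn g L m (e + Finsupp.single (some r) 1)) :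
    0 < sgn g L (m + 1) (e + Finsupp.single (some p) 1) := by
  classical
  set d := e + Finsupp.single (some p) 1 with hdd
  have hterm : 0 < (-1) ^ (d.degree + 1) * coef g L m (lower g p.1 (monomial d 1)) := by
    have hxv : xv g ((p.1.1 : ℤ) - 2) (p.1.2 : ℤ) = X (some r) := by
      rw [← xv_valid r.2, hr]
      congr 1
      dsimp only
      omega
    have e1 : d - Finsupp.single (some p) 1 = e := add_tsub_cancel_right _ _
    rw [lower, dv, dif_pos p.2, Subtype.coe_eta, pderiv_monomial, one_mul, hxv, e1, mul_monomial_eq, map_smul,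
      smul_eq_mul]
    have hdeg : d.degree = e.degree + 1 := by rw [hdd, map_add, Finsupp.degree_single]
    rw [sgn, map_add, Finsupp.degree_single] at h
    rw [hdeg]
    have h1 : (0 : ℚ) < (d (some p) : ℚ) := by rw [hdd]; simp; positivity
    calc (0 : ℚ) < (d (some p) : ℚ) *
          ((-1) ^ (e.degree + 1 + 1) * coef g L m (monomial (e + Finsupp.single (some r) 1) 1)) := mul_pos h1 h
      _ = _ := by ring
  rw [sgn_succ]
  refine add_pos_of_nonneg_of_pos (mul_nonneg (by norm_num)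
    (Finset.sum_nonneg fun p' _ => Finset.sum_nonneg fun q' _ => ?_))
    (Finset.sum_pos' (fun p' _ => ?_) ⟨p.1, mem_idx p.2, hterm⟩)
  · rcases merge_term L m hd p' q' with h' | ⟨_, _, _, _, -, he, -, h'⟩
    · exact h'.symm.le
    · rw [h']; exact mul_nonneg (by positivity) (sgn_nonneg L m _ he)
  · rcases lower_term L m hd p' with h' | ⟨_, _, _, -, he, -, -, h'⟩
    · exact h'.symm.le
    · rw [h']; exact mul_nonneg (by positivity) (sgn_nonneg L m _ he)

theorem good_single_add (p q : {p : ℕ × ℕ // Valid g p}) (a b : ℕ) (hp : 1 ≤ p.1.2) (hq : 1 ≤ q.1.2) :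
    Good (Finsupp.single (some p) a + Finsupp.single (some q) b) := by
  refine ⟨by simp, fun v hv => ?_⟩
  have h1 : p ≠ v := fun h => by rw [h, hv] at hp; exact absurd hp (by decide)
  have h2 : q ≠ v := fun h => by rw [h, hv] at hq; exact absurd hq (by decide)
  simp [h1.symm, h2.symm, Finsupp.single_apply, h1, h2]

theorem descend (L : {p : ℕ × ℕ // Valid g p}) (hL : L.1.1 = 0) (hj : 1 ≤ L.1.2) :
    ∀ (t : ℕ) (p : {p : ℕ × ℕ // Valid g p}), p.1 = (2 * t, L.1.2) → 0 < sgn g L t (Finsupp.single (some p) 1) := by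
  classical
  intro t
  induction t with
  | zero =>
    intro p hp
    obtain rfl : p = L := Subtype.ext (by rw [hp]; exact Prod.ext hL.symm rfl)
    rw [sgn, coef_zero, coeff_monomial, if_pos rfl, Finsupp.degree_single]
    norm_num
  | succ t ih =>
    intro p hp
    have hr : Valid g (2 * t, L.1.2) := by
      obtain ⟨a, b, -, -⟩ := hp ▸ p.2
      obtain ⟨c, hc⟩ := L.2.2.2.1
      exact ⟨by dsimp only at a ⊢; omega, b, ⟨t + c, by dsimp only; omega⟩, fun h => by
        simp only [Prod.mk.injEq] at h; omega⟩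
    have hgood : Good (0 + Finsupp.single (some p) 1) :=
      Good.add_single ⟨rfl, fun _ _ => rfl⟩ (by rw [hp]; exact hj)
    have := pos_of_lower L t p ⟨_, hr⟩ 0 hgood (by rw [hp]; dsimp only; omega)
      (by rw [hp]; exact Prod.ext (by dsimp only; omega) rfl) (by rw [zero_add]; exact ih _ rfl)
    rwa [zero_add] at this

theorem merge_chain (L : {p : ℕ × ℕ // Valid g p}) (hL : L.1.1 = 0) (i : ℕ) (hi : L.1.2 = 2 * i)
    (h31 : Valid g (3, 1)) :
    ∀ (b a : ℕ) (p : {p : ℕ × ℕ // Valid g p}), p.1 = (3 + a, 1 + a) → a + b + 1 = 2 * i →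
      0 < sgn g L (b + i + 1) (Finsupp.single (some ⟨(3, 1), h31⟩) b + Finsupp.single (some p) 1) := by
  intro b
  induction b with
  | zero =>
    intro a p hp hab
    rw [Finsupp.single_zero, zero_add, zero_add]
    refine descend L hL (by omega) (i + 1) p ?_
    rw [hp, hi]
    exact Prod.ext (by dsimp only; omega) (by dsimp only; omega)
  | succ b ih =>
    intro a p hp hab
    have hg2 : 2 * i + 2 ≤ 2 * g := hi ▸ L.2.2.1
    have hr : Valid g (4 + a, 2 + a) :=
      ⟨by dsimp only; omega, by dsimp only; omega, ⟨3 + a, by dsimp only; omega⟩, by simp⟩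
    have hgood : Good (Finsupp.single (some ⟨(3, 1), h31⟩) b + Finsupp.single (some p) 1 +
        Finsupp.single (some (⟨(3, 1), h31⟩ : {p : ℕ × ℕ // Valid g p})) 1) :=
      Good.add_single (good_single_add _ _ _ _ le_rfl (by rw [hp]; exact Nat.le_add_right 1 a)) le_rfl
    have := pos_of_merge L (b + i + 1) p ⟨(3, 1), h31⟩ ⟨_, hr⟩ (Finsupp.single (some ⟨(3, 1), h31⟩) b) hgood
      (by rw [hp]; exact Prod.ext (by dsimp only; omega) (by dsimp only; omega))
      (by
        rw [hp]
        simp only [mergeCoeff, show ¬(3 + a = 0 ∨ 3 = 0) by omega, if_false]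
        exact (Nat.choose_pos (by omega)).ne')
      (ih (a + 1) ⟨_, hr⟩ (Prod.ext (by dsimp only; omega) (by dsimp only; omega)) (by omega))
    rw [show b + 1 + i + 1 = b + i + 1 + 1 by omega]
    convert this using 2
    rw [Finsupp.single_add]
    abel

/-- The symbols of first degree zero reduce to low ones. -/
theorem exists_mem_adjoin (hg : 1 ≤ g) : ∀ i : ℕ, ∃ q ∈ Algebra.adjoin ℚ (lowGens g),
    xv g 0 (2 * (i : ℤ)) - q ∈ relIdeal g := by
  classical
  intro i
  induction i using Nat.strong_induction_on with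
  | _ i ih =>
  rcases Nat.eq_zero_or_pos i with rfl | hi
  · exact ⟨(g : RelRing g), natCast_mem _ _, by simp [xv]⟩
  by_cases hlow : 3 * i ≤ g
  · exact ⟨_, Algebra.subset_adjoin (Or.inr ⟨i, hi, hlow, rfl⟩), by simp⟩
  by_cases hv : Valid g (0, 2 * i)
  swap
  · refine ⟨0, zero_mem _, ?_⟩
    have h0 : xv g 0 (2 * (i : ℤ)) = 0 := by
      unfold xv
      rw [if_neg (by omega), dif_neg]
      rintro ⟨-, -, h⟩
      exact hv (by convert h using 2 <;> omega)
    simp [h0]
  let L : {p : ℕ × ℕ // Valid g p} := ⟨(0, 2 * i), hv⟩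
  have hg2 : 2 * i + 2 ≤ 2 * g := hv.2.1
  have h31 : Valid g (3, 1) := ⟨by simp, by simp; omega, ⟨2, rfl⟩, by simp⟩
  let d₀ : Var g →₀ ℕ := Finsupp.single (some ⟨(3, 1), h31⟩) (2 * i)
  set P := (F g)^[3 * i] (monomial d₀ (1 : ℚ)) with hP
  have hw1 : Finsupp.weight (w1 g) d₀ = 6 * i := by simp [d₀, Finsupp.weight_single, w1, wt]; omega
  have hw2 : Finsupp.weight (w2 g) d₀ = 2 * i := by simp [d₀, Finsupp.weight_single, w2, wt]
  have hPI : P ∈ relIdeal g := Ideal.subset_span ⟨d₀, 3 * i, by rw [weight_wt, hw1]; dsimp only; omega, rfl⟩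
  set c := coeff (Finsupp.single (some L) 1) P with hc
  have hc0 : c ≠ 0 := by
    have h := merge_chain L rfl i rfl h31 (2 * i - 1) 0 ⟨(3, 1), h31⟩ rfl (by omega)
    rw [← Finsupp.single_add, show 2 * i - 1 + 1 = 2 * i by omega, show 2 * i - 1 + i + 1 = 3 * i by omega] at h
    intro h0
    simp only [sgn] at h
    rw [show coef g L (3 * i) (monomial d₀ 1) = c from rfl, h0, mul_zero] at h
    exact lt_irrefl _ h
  let S : Subalgebra ℚ (RelRing g) :=
    ((Algebra.adjoin ℚ (lowGens g)).map (Ideal.Quotient.mkₐ ℚ (relIdeal g))).comap (Ideal.Quotient.mkₐ ℚ (relIdeal g))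
  have hS : ∀ Q, Q ∈ S ↔ ∃ q ∈ Algebra.adjoin ℚ (lowGens g), Q - q ∈ relIdeal g := fun Q => by
    simp only [S, Subalgebra.mem_comap, Subalgebra.mem_map]
    exact exists_congr fun q => and_congr_right fun _ => eq_comm.trans Ideal.Quotient.eq
  rw [← hS]
  have hh1 : IsWeightedHomogeneous (w1 g) P 0 := by
    have := (iterate_first (isWeightedHomogeneous_monomial _ d₀ (1 : ℚ) hw1) (3 * i)).1
    rwa [show 6 * i - 2 * (3 * i) = 0 by omega] at this
  have hh2 : IsWeightedHomogeneous (w2 g) P (2 * i) :=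
    iterate_second (isWeightedHomogeneous_monomial _ d₀ (1 : ℚ) hw2) (3 * i)
  have hrest : P - monomial (Finsupp.single (some L) 1) c ∈ S := by
    conv => arg 2; rw [(P - monomial (Finsupp.single (some L) 1) c).as_sum]
    refine Subalgebra.sum_mem _ fun d hd => ?_
    rw [mem_support_iff, coeff_sub, coeff_monomial] at hd
    have hne : d ≠ Finsupp.single (some L) 1 := fun h => hd (by rw [h, if_pos rfl, hc, sub_self])
    rw [if_neg (Ne.symm hne), sub_zero] at hd
    have h1 := hh1 hd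
    have h2 := hh2 hd
    rw [monomial_eq]
    refine S.mul_mem (S.algebraMap_mem _) (Subalgebra.prod_mem _ fun v hv' => S.pow_mem ?_ _)
    rw [Finsupp.mem_support_iff] at hv'
    rcases v with _ | ⟨⟨a, b⟩, hab⟩
    · exact (hS _).2 ⟨_, Algebra.subset_adjoin (Or.inl rfl), by simp⟩
    have ha : a = 0 := by
      have := Finsupp.le_weight_of_ne_zero' (w1 g) hv'
      rw [h1] at this
      simpa [w1, wt] using this
    subst ha
    obtain ⟨e, he⟩ := hab.2.2.1
    obtain rfl : b = 2 * e := by dsimp only at he; omega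
    have hb : 2 * e ≤ 2 * i := h2 ▸ Finsupp.le_weight_of_ne_zero' (w2 g) hv'
    have hei : e < i := by
      rcases Nat.lt_or_ge e i with h | h
      · exact h
      exfalso
      obtain rfl : e = i := by omega
      set v : Var g := some ⟨(0, 2 * e), hab⟩
      have hs : d = Finsupp.single v (d v) + Finsupp.erase v d := (Finsupp.single_add_erase v d).symm
      have h2' := h2
      rw [hs, map_add, Finsupp.weight_single, smul_eq_mul, show w2 g v = 2 * e from rfl] at h2'
      have hdv : d v = 1 := by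
        by_contra hne1
        have : 2 * (2 * e) ≤ d v * (2 * e) := Nat.mul_le_mul_right _ (by omega)
        omega
      rw [hdv, one_mul] at h2'
      have he0 : Finsupp.erase v d = 0 := by
        refine Finsupp.ext fun w => ?_
        by_contra hw
        have h3 := Finsupp.le_weight_of_ne_zero' (w2 g) hw
        have h4 : w2 g w ≠ 0 := by
          rcases w with _ | ⟨⟨a', b'⟩, hab'⟩
          · simp [w2, wt]
          · intro h5
            simp only [w2, wt] at h5
            subst h5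
            have hdw : d (some ⟨(a', 0), hab'⟩) ≠ 0 := fun h7 => hw (by simp [Finsupp.erase_apply, h7])
            have h6 := Finsupp.le_weight_of_ne_zero' (w1 g) hdw
            rw [h1] at h6
            simp [w1, wt] at h6
            exact hab'.2.2.2 (by simp [h6])
        omega
      exact hne (by rw [hs, hdv, he0, add_zero])
    have := (hS _).2 (ih e hei)
    rwa [show xv g 0 (2 * (e : ℤ)) = X (some ⟨(0, 2 * e), hab⟩) by simpa using xv_valid hab] at this
  have hPS : P ∈ S := (hS P).2 ⟨0, zero_mem _, by simpa using hPI⟩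
  have hX : monomial (Finsupp.single (some L) 1) c = c • xv g 0 (2 * (i : ℤ)) := by
    rw [show xv g 0 (2 * (i : ℤ)) = X (some L) by simpa using xv_valid hv, X, smul_monomial, smul_eq_mul, mul_one]
  have := S.smul_mem (S.sub_mem hPS hrest) c⁻¹
  rwa [sub_sub_cancel, hX, smul_smul, inv_mul_cancel₀ hc0, one_smul] at this

end Groth.Agent.H02CA.TautRel
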